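/-
Central quotients that are nonabelian 2-groups with a unique involution.
Main result: `exists_gens`: lifts of standard generators of a generalized quaternion central quotient.
-/
import Cfsg.Agent.Lib.PGroup.UniqueOrderP

set_option autoImplicit false

namespace Cfsg.Agent.QuatQuot

variable {S : Type*} [Group S]

/-- A generalized quaternion quotient by `C` gives two generators modulo `C`. -/
theorem exists_gens [Finite S] (hS : IsPGroup 2 S) (C : Subgroup S) [C.Normal]
    (hna : ¬ IsMulCommutative (S ⧸ C)) (hu : ∃! x : S ⧸ C, orderOf x = 2) :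
    ∃ (a b : S) (m : ℕ), 1 ≤ m ∧ Subgroup.closure {a, b} ⊔ C = ⊤ ∧ C.index = 4 * m ∧
      a ^ (2 * m) ∈ C ∧ a ^ m ∉ C ∧ (a ^ m)⁻¹ * b ^ 2 ∈ C ∧ a * (b * a * b⁻¹) ∈ C ∧
      (∀ x : S, x ^ 2 ∈ C → x ∈ C ∨ (a ^ m)⁻¹ * x ∈ C) ∧
      (∀ x : S, (∀ y : S, x * y * x⁻¹ * y⁻¹ ∈ C) → (m = 1 ∨ x ∈ C ∨ (a ^ m)⁻¹ * x ∈ C)) ∧ 2 ≤ m := by
  haveI : Fact (Nat.Prime 2) := ⟨Nat.prime_two⟩
  have hQ : IsPGroup 2 (S ⧸ C) := hS.to_quotient C
  obtain ⟨u, hu2, huniq⟩ := hu
  rcases PGroup.unique_order_p_cases hQ (fun x y hx hy => by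
    have hy' : y = 1 ∨ orderOf y = 2 := by
      rcases (Nat.dvd_prime Nat.prime_two).mp (orderOf_dvd_of_pow_eq_one hy) with h | h
      · exact Or.inl (orderOf_eq_one_iff.mp h)
      · exact Or.inr h
    rcases hy' with rfl | h
    · exact one_mem _
    · rw [huniq y h, ← huniq x hx]; exact Subgroup.mem_zpowers _) with h | ⟨-, k, ⟨e⟩⟩
  · exact absurd (IsCyclic.commutative (α := S ⧸ C)) hna
  rcases k with _ | k
  · exfalso
    refine hna ⟨⟨fun x y => e.injective ?_⟩⟩
    rw [map_mul, map_mul]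
    revert x y
    suffices ∀ p q : QuaternionGroup (2 ^ 0), p * q = q * p by intro x y; exact this _ _
    decide
  set m := 2 ^ (k + 1) with hm
  haveI : NeZero m := ⟨by positivity⟩
  have hm2 : 2 ≤ m := by
    rw [hm]; calc 2 = 2 ^ 1 := rfl
      _ ≤ 2 ^ (k + 1) := Nat.pow_le_pow_right two_pos (by omega)
  obtain ⟨a, ha⟩ := QuotientGroup.mk_surjective (e.symm (QuaternionGroup.a 1))
  obtain ⟨b, hb⟩ := QuotientGroup.mk_surjective (e.symm (QuaternionGroup.xa 0))
  have ha' : e (a : S ⧸ C) = QuaternionGroup.a 1 := by rw [ha, MulEquiv.apply_symm_apply]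
  have hb' : e (b : S ⧸ C) = QuaternionGroup.xa 0 := by rw [hb, MulEquiv.apply_symm_apply]
  have hmem : ∀ x : S, x ∈ C ↔ e (x : S ⧸ C) = 1 := fun x => by
    rw [MulEquiv.map_eq_one_iff, QuotientGroup.eq_one_iff]
  have hdiv : ∀ x y : S, x⁻¹ * y ∈ C ↔ e (x : S ⧸ C) = e (y : S ⧸ C) := fun x y => by
    rw [e.injective.eq_iff, QuotientGroup.eq]
  have hpow : ∀ i : ℕ, e ((a ^ i : S) : S ⧸ C) = QuaternionGroup.a (i : ZMod (2 * m)) := by
    intro i; rw [QuotientGroup.mk_pow, map_pow, ha', QuaternionGroup.a_one_pow]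
  have hz : ((m : ℕ) : ZMod (2 * m)) ≠ 0 := by
    intro h
    rw [ZMod.natCast_eq_zero_iff] at h
    have := Nat.le_of_dvd (by omega) h
    omega
  have hone : (1 : QuaternionGroup m) = QuaternionGroup.a 0 := rfl
  refine ⟨a, b, m, by omega, ?_, ?_, ?_, ?_, ?_, ?_, ?_, ?_, hm2⟩
  · have hgen : ∀ q : QuaternionGroup m, ∃ x ∈ Subgroup.closure ({a, b} : Set S), e (x : S ⧸ C) = q := by
      have hA : a ∈ Subgroup.closure ({a, b} : Set S) := Subgroup.subset_closure (by simp)
      have hB : b ∈ Subgroup.closure ({a, b} : Set S) := Subgroup.subset_closure (by simp)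
      rintro (i | i)
      · exact ⟨a ^ i.val, pow_mem hA _, by rw [hpow, ZMod.natCast_zmod_val]⟩
      · refine ⟨b * a ^ i.val, mul_mem hB (pow_mem hA _), ?_⟩
        rw [QuotientGroup.mk_mul, map_mul, hpow, hb', QuaternionGroup.xa_mul_a, ZMod.natCast_zmod_val, zero_add]
    rw [eq_top_iff]
    intro s _
    obtain ⟨x, hx, hxe⟩ := hgen (e (s : S ⧸ C))
    have : x⁻¹ * s ∈ C := (hdiv x s).mpr hxe
    have h := Subgroup.mul_mem_sup hx this
    rwa [mul_inv_cancel_left] at h
  · rw [Subgroup.index_eq_card, Nat.card_congr e.toEquiv, Nat.card_eq_fintype_card, QuaternionGroup.card]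
  · rw [hmem, hpow, ZMod.natCast_self, hone]
  · rw [hmem, hpow, hone]
    exact fun h => hz (QuaternionGroup.a.inj h)
  · rw [hdiv, hpow, QuotientGroup.mk_pow, map_pow, hb', QuaternionGroup.xa_sq]
  · rw [hmem, QuotientGroup.mk_mul, QuotientGroup.mk_mul, QuotientGroup.mk_mul, QuotientGroup.mk_inv,
      map_mul, map_mul, map_mul, map_inv, ha', hb']
    show QuaternionGroup.a 1 * (QuaternionGroup.xa 0 * QuaternionGroup.a 1 *
      QuaternionGroup.xa ((m : ZMod (2 * m)) + 0)) = 1
    rw [QuaternionGroup.xa_mul_a, QuaternionGroup.xa_mul_xa, QuaternionGroup.a_mul_a, hone]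
    congr 1
    have h2m := ZMod.natCast_self (2 * m)
    push_cast at h2m
    linear_combination h2m
  · intro x hx
    rw [hmem, QuotientGroup.mk_pow, map_pow] at hx
    rw [hmem, hdiv, hpow]
    revert hx
    rcases e (x : S ⧸ C) with i | i <;> intro hx
    · have h2 : 2 * i = 0 := by
        rw [pow_two, QuaternionGroup.a_mul_a, hone] at hx
        linear_combination QuaternionGroup.a.inj hx
      have hd : 2 * m ∣ 2 * i.val := by
        rw [← ZMod.natCast_eq_zero_iff]; push_cast; rw [ZMod.natCast_zmod_val]; exact h2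
      obtain ⟨t, ht⟩ := (Nat.mul_dvd_mul_iff_left two_pos).mp hd
      have hlt := i.val_lt
      rcases t with _ | _ | t
      · left; rw [hone, ← ZMod.natCast_zmod_val i, ht]; simp
      · right; rw [← ZMod.natCast_zmod_val i, ht]; simp
      · exfalso; nlinarith
    · exfalso
      rw [QuaternionGroup.xa_sq, hone] at hx
      exact hz (QuaternionGroup.a.inj hx)
  · intro x hx
    right
    rw [hmem, hdiv, hpow]
    have hc : ∀ q, e (x : S ⧸ C) * q = q * e (x : S ⧸ C) := by
      intro q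
      obtain ⟨y, hy⟩ := QuotientGroup.mk_surjective (e.symm q)
      have h := hx y
      rw [hmem, QuotientGroup.mk_mul, QuotientGroup.mk_mul, QuotientGroup.mk_mul, QuotientGroup.mk_inv,
        QuotientGroup.mk_inv, map_mul, map_mul, map_mul, map_inv, map_inv, hy, MulEquiv.apply_symm_apply] at h
      rw [mul_inv_eq_one, mul_inv_eq_iff_eq_mul] at h
      exact h
    revert hc
    rcases e (x : S ⧸ C) with i | i <;> intro hc
    · have h := hc (QuaternionGroup.xa 0)
      rw [QuaternionGroup.a_mul_xa, QuaternionGroup.xa_mul_a] at h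
      have h' := QuaternionGroup.xa.inj h
      have h2 : 2 * i = 0 := by linear_combination -h'
      have hd : 2 * m ∣ 2 * i.val := by
        rw [← ZMod.natCast_eq_zero_iff]; push_cast; rw [ZMod.natCast_zmod_val]; exact h2
      obtain ⟨t, ht⟩ := (Nat.mul_dvd_mul_iff_left two_pos).mp hd
      have hlt := i.val_lt
      rcases t with _ | _ | t
      · left; rw [hone, ← ZMod.natCast_zmod_val i, ht]; simp
      · right; rw [← ZMod.natCast_zmod_val i, ht]; simp
      · exfalso; nlinarith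
    · exfalso
      have h := hc (QuaternionGroup.a 1)
      rw [QuaternionGroup.xa_mul_a, QuaternionGroup.a_mul_xa] at h
      have h' := QuaternionGroup.xa.inj h
      have h2 : ((2 : ℕ) : ZMod (2 * m)) = 0 := by push_cast; linear_combination h'
      rw [ZMod.natCast_eq_zero_iff] at h2
      have := Nat.le_of_dvd two_pos h2
      omega

end Cfsg.Agent.QuatQuot
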